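import Cfsg.Agent.Spor.HNN1.D0

set_option autoImplicit false
set_option maxRecDepth 100000000
set_option Elab.async false

namespace Cfsg.Agent.Spor.HNN1

theorem ok0 : Net.okb 1 n0 = true := by decide +kernel

theorem ok1 : Net.okb 1 n1 = true := by decide +kernel

theorem ok2 : Net.okb 1 n2 = true := by decide +kernel

theorem ok3 : Net.okb 1 n3 = true := by decide +kernel

theorem rel0 : T.rel 1 [2, 2, 2, 2, 2, 2] 0 1 = true := by decide +kernel

theorem rel1 : T.rel 1 [6, 1, 1, 2, 1, 1] 0 1 = true := by decide +kernel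

theorem rel2 : T.rel 1 [2, 1, 6, 5, 2, 1, 6, 5, 2, 1, 6, 5] 0 1 = true := by decide +kernel

theorem rel3 : T.rel 1 [2, 2, 2, 1, 2, 2, 5, 2, 2, 2, 1, 2, 2, 5, 2, 2, 2, 1, 2, 2, 5] 0 1 = true := by decide +kernel

theorem rel4 : T.rel 1 [2, 1, 2, 1, 2, 1, 2, 1, 2, 1, 2, 1, 2, 1, 2, 1] 0 1 = true := by decide +kernel

theorem rel5 : T.rel 1 [2, 2, 2, 1, 2, 1, 2, 2, 2, 1, 2, 1, 2, 2, 2, 1, 2, 1, 2, 2, 2, 1, 2, 1] 0 1 = true := by decide +kernel

theorem rel6 : T.rel 1 [3, 3] 0 1 = true := by decide +kernel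

theorem rel7 : T.rel 1 [1, 3, 1, 3] 0 1 = true := by decide +kernel

theorem rel8 : T.rel 1 [5, 5, 6, 1, 2, 2, 1, 2, 1, 2, 3, 6, 5, 6, 5, 6, 6, 5, 2, 7] 0 1 = true := by decide +kernel

theorem rel9 : T.rel 1 [1, 2, 1, 2, 1, 2, 2, 2, 3, 6, 6, 6, 5, 6, 5, 6, 1, 2, 1, 2, 1, 2, 2, 2, 3, 6, 6, 6, 5, 6, 5, 6, 1, 2, 1, 2, 1, 2, 2, 2, 3, 6, 6, 6, 5, 6, 5, 6, 3] 0 1 = true := by decide +kernel

theorem rel10 : T.rel 1 [4, 4, 4, 4, 4] 0 1 = true := by decide +kernel

theorem rel11 : T.rel 1 [4, 4, 1, 4, 5] 0 1 = true := by decide +kernel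

theorem rel12 : T.rel 1 [2, 4, 6, 8] 0 1 = true := by decide +kernel

theorem rel13 : T.rel 1 [4, 3, 4, 3, 4, 3] 0 1 = true := by decide +kernel

theorem rel14 : T.rel 1 [3, 4, 1, 2, 3, 2, 4] 0 1 = true := by decide +kernel

theorem hcov : T.treeCov (ones 1) L 1 = true := by decide +kernel

theorem hg : lall (fun z => band (memL L z) (band (sub (ones 1) (T.let z).cl) (T.closed (ones 1) z))) gs = true := by decide +kernel

theorem hivk : ivOk (2 * 0) EX IV = true := by decide +kernel

theorem hrt : RT.ok (2 * 0) EX RL = true := by decide +kernel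

theorem hdefs : defs F 151 = true := by decide +kernel

noncomputable def st0_l : List Nat := [nat_lit 0x1801, nat_lit 0x4001, nat_lit 0x7001, nat_lit 0x200000200003403, nat_lit 0x220000300000003, nat_lit 0x4d801, nat_lit 0xb001, nat_lit 0x5c000080000180005c04, nat_lit 0x320000400002c03, nat_lit 0xd801, nat_lit 0x3c0000500003403, nat_lit 0x7c0000c000048000ac04, nat_lit 0x10001, nat_lit 0x880000c000048000bc04, nat_lit 0x27800148000220000fc04, nat_lit 0x880000c0000180004c04, nat_lit 0x540002f000a400053404, nat_lit 0x12001, nat_lit 0x4a0000700004c03, nat_lit 0x4e0000700005c03, nat_lit 0x540000900005403, nat_lit 0x16001, nat_lit 0x5a0000a00005c03, nat_lit 0x17001, nat_lit 0x5c0000c0004c803, nat_lit 0x1780003400004000058000ec05, nat_lit 0x1b000048000060000680051805, nat_lit 0x24000038000040000d000a300058806, nat_lit 0x1c001, nat_lit 0x390000980025e000050000f80019406, nat_lit 0x188002660001f000328005a005, nat_lit 0x5a801, nat_lit 0x16c000390001c403, nat_lit 0x74000130000a403, nat_lit 0x1d801, nat_lit 0xb0000100012e000148005c805,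 nat_lit 0xf000028000128001bc04, nat_lit 0xf000028000118001a404, nat_lit 0xd40006f000bb0005e404, nat_lit 0x7a000a780054803, nat_lit 0x3d0000a8000100012e000148005c006, nat_lit 0x7c000150004e803, nat_lit 0x7e000a780015403, nat_lit 0x400005d4002e6000280001180019c06, nat_lit 0x61001, nat_lit 0x84000170000cc03, nat_lit 0x110000300000400000004, nat_lit 0x118000300001780020c04, nat_lit 0x314000880004680063404, nat_lit 0x6340031c000010000680010c05, nat_lit 0xc800023002, nat_lit 0x24801, nat_lit 0x920001a00050003, nat_lit 0x128000340009f00062004, nat_lit 0x4d0005040001400009000168005d406, nat_lit 0x9e0001d0000f403, nat_lit 0x1400003c0009f00023c04, nat_lit 0x28801, nat_lit 0x350000900000c0000d000a100068006, nat_lit 0x1480003c0009f00062004, nat_lit 0x332001a40005200028404, nat_lit 0xa6000a500055003, nat_lit 0xa6000a28001ec03, nat_lit 0xa8000a28001fc03, nat_lit 0xa8000a500056803, nat_lit 0xaa0002000010c03, nat_lit 0x55000588000d8000240001380059806, nat_lit 0x6c001, nat_lit 0xac000b100059003, nat_lit 0x5600051c00268000200000e80018406,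 nat_lit 0xae000c980021c03, nat_lit 0xb0000c980022c03, nat_lit 0x16c00046000278006a004, nat_lit 0x2b8000840003f000538006f805, nat_lit 0x17000046000258005f004, nat_lit 0x170000b7000e00006ec04, nat_lit 0x17c0017c000d50006f804, nat_lit 0x30001, nat_lit 0x1c0000ea0017e000be80072005, nat_lit 0x1c3000be80072000394001b2000da0002c407, nat_lit 0xe600071402, nat_lit 0x1bc000e60002e003, nat_lit 0xe600070c02, nat_lit 0xb4000e800022803, nat_lit 0xea0002d002, nat_lit 0x74800160000420001f8002a405, nat_lit 0xb6000eb00022403, nat_lit 0x3f0000a800062001d70002300013406, nat_lit 0xee0006b002, nat_lit 0xee00060c02, nat_lit 0x158000b6001ae000ec0005f405, nat_lit 0xf100015802, nat_lit 0x3c0001df000ec0006a804, nat_lit 0x18a000ed00071803, nat_lit 0x35c001de0002600013c04, nat_lit 0x159000f200030403, nat_lit 0xbc000a880012c0017e001e80009c80019c07, nat_lit 0xf70002f002, nat_lit 0x174001f0000330001a404, nat_lit 0xf90002e802, nat_lit 0x3000009400150000f800061c05, nat_lit 0x36e001f4000bd00068c04, nat_lit 0xfc0002b002, nat_lit 0xfc0006e402,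 nat_lit 0xfc0006dc02, nat_lit 0x480000d00007a001a0000ff8007d006, nat_lit 0xfb000300000940000e0009800014c06, nat_lit 0x2de001cb000fb80080c04, nat_lit 0x1fc000d080028403, nat_lit 0x27000124003fc001a10001e0000dc06, nat_lit 0x980010400013803, nat_lit 0x197001040007a803, nat_lit 0x9a0010400055403, nat_lit 0x1a90010480027403, nat_lit 0x10500026002, nat_lit 0x10600065402, nat_lit 0x10600024802, nat_lit 0x10700026802, nat_lit 0x19a001078004f003, nat_lit 0x10800079802, nat_lit 0x1080006ac02, nat_lit 0x1750010d8000b803, nat_lit 0x181001108000c403, nat_lit 0x80001108000cc03, nat_lit 0x1110001f002, nat_lit 0x8e0011200080c03, nat_lit 0x1f7001128004fc03, nat_lit 0x19f0011480081003, nat_lit 0x1ed001158000d403, nat_lit 0x1c8001158000dc03, nat_lit 0x1cb001158000f403, nat_lit 0x16d0011600081803, nat_lit 0x1a70011680018803, nat_lit 0x2170011700056403, nat_lit 0xbe0011880025c03, nat_lit 0x17d0011880084803, nat_lit 0x2190011800054c03, nat_lit 0x9c0011800012803, nat_lit 0xa20011900059c03, nat_lit 0x1b30011980067003, nat_lit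 0x11a0005a802, nat_lit 0x600011b00025003, nat_lit 0x1980011b80057803, nat_lit 0x47c0015a0011c80005004, nat_lit 0x11c00085402, nat_lit 0x1570011c00016803, nat_lit 0x11c00085c02, nat_lit 0x11c0006b802, nat_lit 0x11d0007a002, nat_lit 0x1d30011e80011c03, nat_lit 0x17e0011e80012403, nat_lit 0x424002400010f8008f404, nat_lit 0x1d80011e80013403, nat_lit 0x7b0011e80003803, nat_lit 0x27a0023f0012680000804, nat_lit 0x98002400010e80094404, nat_lit 0x1fa0012180009803, nat_lit 0x12100028802, nat_lit 0x488000aa0013380008c04, nat_lit 0x36a00245001358004e004, nat_lit 0x2460012480094803, nat_lit 0x494000840013180002c04, nat_lit 0x34a0024b001388004f804, nat_lit 0x78002700012500062404, nat_lit 0xb20012c00073c03, nat_lit 0x3ae00258000580009b404, nat_lit 0x12d0001d002, nat_lit 0x960012e80011c03, nat_lit 0x480012e00050403, nat_lit 0x2640012f00095003, nat_lit 0x2000260001130009e404, nat_lit 0xcc0026a000ce8009d404, nat_lit 0x680013500027803, nat_lit 0x6300137800a0403, nat_lit 0x20400137800a0003, nat_lit 0x6800270000af800a2404,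 nat_lit 0x13800057402, nat_lit 0x4e4000a40013a8004fc04, nat_lit 0x4d20027500148800a3c04, nat_lit 0x13b0002c802, nat_lit 0x13c00021c02, nat_lit 0x13e00095c02, nat_lit 0x28e0013f00054403, nat_lit 0x14d000a48004f40027f0009f000a4406, nat_lit 0x2960014100014403, nat_lit 0x138001410004c403, nat_lit 0x5320028200029800a2c04, nat_lit 0xe8005200028400033000a8405, nat_lit 0x2a40014300080003, nat_lit 0x5180024e001440004cc04, nat_lit 0x1200028d0015480006c04, nat_lit 0x700029c0014d00006004, nat_lit 0x53c0029500151800aa404, nat_lit 0x14f000a5802, nat_lit 0x554002a6001500004e004, nat_lit 0x2c2002a50000a800aa404, nat_lit 0x2af001560000e003, nat_lit 0xad800562002b20002f800ad405, nat_lit 0xa002b80015b000ac404, nat_lit 0x800aec02, nat_lit 0x31000184002bc0015e00030c05, nat_lit 0x32001, nat_lit 0x33801, nat_lit 0xce00062000b0003, nat_lit 0xc80015f000b0803, nat_lit 0x3500018c002be0006200031c05, nat_lit 0x35801, nat_lit 0xd80006300032c03, nat_lit 0xda0006300033403, nat_lit 0x1c4000ca0006280034c04, nat_lit 0x1c8000ca0015f00034c04,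 nat_lit 0xe60006500030803, nat_lit 0xea0006600030803, nat_lit 0x1d8000cc0006580038c04, nat_lit 0x3a0001da002d900168800b4805, nat_lit 0x16d0003a002, nat_lit 0x3d001, nat_lit 0x3d801, nat_lit 0xd600164000b8003, nat_lit 0x7e0003580018c002be00069800b7806, nat_lit 0x3b80019c000d30016f000b9005, nat_lit 0x3f80059a000e50016e800b3805, nat_lit 0x1f0002c90006d800ba004, nat_lit 0x204000d8001640003ec04, nat_lit 0x5d4000f80007d800bb004, nat_lit 0x2000010300177000ba804, nat_lit 0x41001, nat_lit 0x1060006e00037c03, nat_lit 0x8300037000190000c20015e000b5806, nat_lit 0x17a000bdc001d4000cc0006480037c06, nat_lit 0x5f0000de001620003c404, nat_lit 0x1c0000df0017c000bec04, nat_lit 0x3b8001e2002fa0006f00038405, nat_lit 0x17f000b9c02, nat_lit 0x17f0003b802, nat_lit 0xbe8001bc002c700078800bf005, nat_lit 0xf10018280038003, nat_lit 0x5f60030500181800c1c04, nat_lit 0x2c200183800b0403, nat_lit 0x606003070006f800c2404, nat_lit 0x2f50018480037403, nat_lit 0x18500031002, nat_lit 0xd00018580030803, nat_lit 0x30000186800b0403, nat_lit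 0x10400187000bdc03, nat_lit 0x18700041802, nat_lit 0x1890003cc02, nat_lit 0xfd0018a80030803, nat_lit 0x18b000bcc02, nat_lit 0x18b00041002, nat_lit 0x2e20018e800af403, nat_lit 0x31a0018e000b2c03, nat_lit 0x5c0003230018d800c9404, nat_lit 0x192000c6802, nat_lit 0xf80019380036403, nat_lit 0x2f1001958003fc03, nat_lit 0x19600040002, nat_lit 0x18f800c6000640002d70019400036406, nat_lit 0x32f00198000b5c03, nat_lit 0x2e800199800af403, nat_lit 0xff00199800af003, nat_lit 0x5aa0033600197000ccc04, nat_lit 0x1b6003350016a000ce404, nat_lit 0x19d00031802, nat_lit 0xc4400678000c30019e000af4001860033c0015e00030c00678000c300188000cf000186003110019e00030c00678002bd00061800cf015, nat_lit 0x61800cfc02, nat_lit 0x42001, nat_lit 0x1080015e000d0803, nat_lit 0x4400021400344001a200042c05, nat_lit 0x44801, nat_lit 0x1140008500043403, nat_lit 0x1160008500043c03, nat_lit 0x2340010c001a280043c04, nat_lit 0x2380010c001a200043c04, nat_lit 0x2340010c00087800d4004, nat_lit 0x6a000352001a7800d4004, nat_lit 0x4680023a003520008d00046405,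 nat_lit 0x1ab000d3c02, nat_lit 0x1ab000d4c02, nat_lit 0x1ab00046802, nat_lit 0x47801, nat_lit 0x48001, nat_lit 0x12000088000d2003, nat_lit 0x112001a3000d8003, nat_lit 0x91000448002140034400087800d7806, nat_lit 0x12400091800d9c03, nat_lit 0x920004480022e0034d001af000da006, nat_lit 0x4a001, nat_lit 0x940004500021400108001a0000af006, nat_lit 0x93000d240022a00129001b780042406, nat_lit 0x127001b880043403, nat_lit 0x364001b980046403, nat_lit 0x122001b9800d2803, nat_lit 0x124001b9800d7003, nat_lit 0x23800372001b1000dd404, nat_lit 0x1bb000d9c02, nat_lit 0x6f00036a001bc800d6404, nat_lit 0x6d000379001bf800d3004, nat_lit 0x1bf000de8006a80037e001bd00047006, nat_lit 0x382001bf000d6c006f60037f001c180043007, nat_lit 0xe00006be00383001c280042005, nat_lit 0x6de00386001c0000df004, nat_lit 0x4280070800382001a6000e1c05, nat_lit 0x6960038500085800e2c04, nat_lit 0x4200071800388001b6800e3405, nat_lit 0x84800e3c02, nat_lit 0x4b001, nat_lit 0x960004a80068000390001a0000af006, nat_lit 0x960004a80072000394000960004a806, nat_lit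 0x392001cb800e4403, nat_lit 0x95800e6402]
theorem st0 : band (steps F IV RT base st0_l 151) (Nat.beq (Nat.add 151 (llen st0_l)) 462) = true := by decide +kernel

theorem ep0a : T.treePath [] (Nat.shiftLeft 1 0) 1 = true := by decide +kernel

theorem ep0b : T.treePath [] (Nat.shiftLeft 1 0) 1 = true := by decide +kernel

theorem ep0c : band (lall (fun z => Nat.ble z 255) ([] ++ 1 :: [])) (concl F IV 462 0xaf001 (encA ([] ++ 1 :: []) 0)) = true := by decide +kernel

theorem ep0d : band (Rule.ok (2 * 0) EX [] ⟨lapp [] [], [], 0, false⟩) (band (lall (memL L) []) (lall (memL L) [])) = true := by decide +kernel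

theorem cov1 : T.cover 1 [(Nat.shiftLeft 1 0)] = true := by decide +kernel

theorem tl1 : Nat.beq (T.let 1).tt 0 = true := by decide +kernel

theorem ep1a : T.treePath [] (Nat.shiftLeft 1 0) 1 = true := by decide +kernel

theorem ep1b : T.treePath [] (Nat.shiftLeft 1 0) 1 = true := by decide +kernel

theorem ep1c : band (lall (fun z => Nat.ble z 255) ([] ++ 2 :: [])) (concl F IV 462 0xd0001 (encA ([] ++ 2 :: []) 0)) = true := by decide +kernel

theorem ep1d : band (Rule.ok (2 * 0) EX [] ⟨lapp [] [], [], 0, false⟩) (band (lall (memL L) []) (lall (memL L) [])) = true := by decide +kernel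

theorem cov2 : T.cover 2 [(Nat.shiftLeft 1 0)] = true := by decide +kernel

theorem tl2 : Nat.beq (T.let 2).tt 0 = true := by decide +kernel

theorem ep2a : T.treePath [] (Nat.shiftLeft 1 0) 1 = true := by decide +kernel

theorem ep2b : T.treePath [] (Nat.shiftLeft 1 0) 1 = true := by decide +kernel

theorem ep2c : band (lall (fun z => Nat.ble z 255) ([] ++ 3 :: [])) (concl F IV 462 0xe4001 (encA ([] ++ 3 :: []) 0)) = true := by decide +kernel

theorem ep2d : band (Rule.ok (2 * 0) EX [] ⟨lapp [] [], [], 0, false⟩) (band (lall (memL L) []) (lall (memL L) [])) = true := by decide +kernel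

theorem cov3 : T.cover 3 [(Nat.shiftLeft 1 0)] = true := by decide +kernel

theorem tl3 : Nat.beq (T.let 3).tt 0 = true := by decide +kernel

theorem ep3a : T.treePath [] (Nat.shiftLeft 1 0) 1 = true := by decide +kernel

theorem ep3b : T.treePath [] (Nat.shiftLeft 1 0) 1 = true := by decide +kernel

theorem ep3c : band (lall (fun z => Nat.ble z 255) ([] ++ 4 :: [])) (concl F IV 462 0xe6801 (encA ([] ++ 4 :: []) 0)) = true := by decide +kernel

theorem ep3d : band (Rule.ok (2 * 0) EX [] ⟨lapp [] [], [], 0, false⟩) (band (lall (memL L) []) (lall (memL L) [])) = true := by decide +kernel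

theorem cov4 : T.cover 4 [(Nat.shiftLeft 1 0)] = true := by decide +kernel

theorem tl4 : Nat.beq (T.let 4).tt 0 = true := by decide +kernel

theorem rot5_1 : T.rot 5 [1] (sel (ones 1) ip5 1) = true := by decide +kernel

theorem rot5_1r : band (Rule.ok (2 * 0) EX RL ⟨5 :: [1], [], 15, false⟩) (lall (memL L) [1]) = true := by decide +kernel

theorem cov5 : T.cover 5 [(sel (ones 1) ip5 1)] = true := by decide +kernel

theorem tl5 : Nat.beq (T.let 5).tt 0 = true := by decide +kernel

theorem rot6_1 : T.rot 6 [1, 1, 2, 1, 1] (sel (ones 1) ip6 1) = true := by decide +kernel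

theorem rot6_1r : band (Rule.ok (2 * 0) EX RL ⟨6 :: [1, 1, 2, 1, 1], [], 1, true⟩) (lall (memL L) [1, 1, 2, 1, 1]) = true := by decide +kernel

theorem cov6 : T.cover 6 [(sel (ones 1) ip6 1)] = true := by decide +kernel

theorem tl6 : Nat.beq (T.let 6).tt 0 = true := by decide +kernel

theorem rot7_1 : T.rot 7 [3] (sel (ones 1) ip7 1) = true := by decide +kernel

theorem rot7_1r : band (Rule.ok (2 * 0) EX RL ⟨7 :: [3], [], 15, false⟩) (lall (memL L) [3]) = true := by decide +kernel

theorem cov7 : T.cover 7 [(sel (ones 1) ip7 1)] = true := by decide +kernel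

theorem tl7 : Nat.beq (T.let 7).tt 0 = true := by decide +kernel

theorem rot8_1 : T.rot 8 [4] (sel (ones 1) ip8 1) = true := by decide +kernel

theorem rot8_1r : band (Rule.ok (2 * 0) EX RL ⟨8 :: [4], [], 15, false⟩) (lall (memL L) [4]) = true := by decide +kernel

theorem cov8 : T.cover 8 [(sel (ones 1) ip8 1)] = true := by decide +kernel

theorem tl8 : Nat.beq (T.let 8).tt 0 = true := by decide +kernel

end Cfsg.Agent.Spor.HNN1
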